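/- The derived right adjoint of the pushforward along a closed immersion on the whole derived category. -/
import Groth.Prelude.Def_Dual3
import Groth.Agent.RHomPlus.Main
import Groth.Agent.KFlat.ClosedImm
import Groth.Agent.KInj.Adjunction
import Groth.Agent.DerPush.Basic

set_option autoImplicit false
set_option backward.isDefEq.respectTransparency false
set_option backward.isDefEq.respectTransparency.types false
set_option linter.style.haveILetI false
universe u

open CategoryTheory Limits AlgebraicGeometry

attribute [local instance] HasDerivedCategory.standard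

namespace Groth.Agent.ClosedShriek

variable {Z X : Scheme.{u}} (i : Z ⟶ X)

/-- `i_*` on derived categories is `Ri_*` when `i_*` is exact -/
theorem nonempty_pushD_iso_rpush [DCoh.HasRpush i] [PreservesFiniteLimits (Scheme.Modules.pushforward i)]
    [PreservesFiniteColimits (Scheme.Modules.pushforward i)] : Nonempty (Dual3.pushD i ≅ DCoh.Rpush i) := by
  let W := HomotopyCategory.quasiIso Z.Modules (ComplexShape.up ℤ)
  let α : DCoh.pushKh i ⟶ DerivedCategory.Qh ⋙ Dual3.pushD i :=
    (Scheme.Modules.pushforward i).mapDerivedCategoryFactorsh.inv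
  haveI : (Dual3.pushD i).IsRightDerivedFunctor α W :=
    (KInj.isDeforming_Qh DerPush.exists_kInj_sch (DCoh.pushKh i)).isRightDerivedFunctor W _ α
      fun I _ => inferInstance
  exact ⟨Functor.rightDerivedUnique (Dual3.pushD i) (DCoh.Rpush i) α (DerPush.rpushUnit i) W⟩

variable [Dual3.HasHomO i]

/-- `Hom(O_Z, -)` on homotopy categories, followed by localisation -/
noncomputable abbrev homKh : HomotopyCategory X.Modules (ComplexShape.up ℤ) ⥤ DCoh.D Z :=
  (Dual3.homO i).mapHomotopyCategory (ComplexShape.up ℤ) ⋙ DerivedCategory.Qh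

/-- the right adjoint of `Ri_*`, agreeing with `RHomOPlus` on bounded below objects -/
theorem exists_rightAdjoint [IsClosedImmersion i] [EnoughInjectives X.Modules] [DCoh.HasRpush i] :
    ∃ RG : DCoh.D X ⥤ DCoh.D Z, Nonempty (DCoh.Rpush i ⊣ RG) ∧
      Nonempty ((DerivedCategory.Plus.ι : DerivedCategory.Plus X.Modules ⥤ DCoh.D X) ⋙ RG ≅
        Dual3.RHomOPlus i ⋙ DerivedCategory.Plus.ι) := by
  have := KFlat.preservesHomology_pushforward i
  haveI : PreservesFiniteLimits (Scheme.Modules.pushforward i) := Functor.preservesFiniteLimits_of_preservesHomology _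
  haveI : PreservesFiniteColimits (Scheme.Modules.pushforward i) :=
    Functor.preservesFiniteColimits_of_preservesHomology _
  let W := HomotopyCategory.quasiIso X.Modules (ComplexShape.up ℤ)
  have hdef := KInj.isDeforming_Qh (A := X.Modules) DerPush.exists_kInj_sch (homKh i)
  haveI := hdef.hasRightDerivedFunctor W
  let RG := (homKh i).totalRightDerived DerivedCategory.Qh W
  let u : homKh i ⟶ DerivedCategory.Qh ⋙ RG := (homKh i).totalRightDerivedUnit DerivedCategory.Qh W
  obtain ⟨adj⟩ := KInj.nonempty_adj_Qh (Dual3.homOAdj i) DerPush.exists_kInj_sch RG u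
  obtain ⟨e⟩ := nonempty_pushD_iso_rpush i
  refine ⟨RG, ⟨adj.ofNatIsoLeft e⟩, ?_⟩
  let H : CochainComplex.Plus X.Modules ⥤ DCoh.D Z :=
    (CochainComplex.plus X.Modules).ι ⋙ HomotopyCategory.quotient X.Modules (ComplexShape.up ℤ) ⋙ homKh i
  let β : H ⟶ DerivedCategory.Plus.Q ⋙ Dual3.RHomOPlus i ⋙ DerivedCategory.Plus.ι :=
    { app := fun K => DerivedCategory.Plus.ι.map ((Dual3.homO i).rightDerivedFunctorPlusUnit.app
        ((HomotopyCategory.Plus.quotient X.Modules).obj K))
      naturality := fun K K' f => by
        have h := congrArg DerivedCategory.Plus.ι.map ((Dual3.homO i).rightDerivedFunctorPlusUnit.naturality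
          ((HomotopyCategory.Plus.quotient X.Modules).map f))
        rw [Functor.map_comp, Functor.map_comp] at h
        exact h }
  let α : H ⟶ DerivedCategory.Plus.Q ⋙ DerivedCategory.Plus.ι ⋙ RG :=
    { app := fun K => u.app ((HomotopyCategory.quotient X.Modules (ComplexShape.up ℤ)).obj K.obj)
      naturality := fun K K' f => u.naturality ((HomotopyCategory.quotient X.Modules (ComplexShape.up ℤ)).map f.hom) }
  refine RHomPlus.nonempty_natIso_plus α β fun L => ?_
  let K := (InjectiveObject.ι X.Modules).mapCochainComplexPlus.obj L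
  constructor
  · exact hdef.isIso_app W RG u (I := (HomotopyCategory.quotient X.Modules (ComplexShape.up ℤ)).obj K.obj)
      (inferInstanceAs (CochainComplex.IsKInjective
        (((InjectiveObject.ι X.Modules).mapHomologicalComplex (ComplexShape.up ℤ)).obj L.obj)))
  · haveI : IsIso ((Dual3.homO i).rightDerivedFunctorPlusUnit.app
        ((HomotopyCategory.Plus.quotient X.Modules).obj K)) := inferInstanceAs (IsIso
      ((Dual3.homO i).rightDerivedFunctorPlusUnit.app ((HomotopyCategory.Plus.quotient X.Modules).obj
        ((InjectiveObject.ι X.Modules).mapCochainComplexPlus.obj L))))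
    show IsIso (DerivedCategory.Plus.ι.map ((Dual3.homO i).rightDerivedFunctorPlusUnit.app ((HomotopyCategory.Plus.quotient X.Modules).obj K)))
    infer_instance

end Groth.Agent.ClosedShriek
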