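/- Uniqueness of partially defined right adjoints on full subcategories. -/
import Groth.Agent.RHomCx.Derived

set_option autoImplicit false
set_option backward.isDefEq.respectTransparency false
set_option backward.isDefEq.respectTransparency.types false
set_option linter.style.haveILetI false

open CategoryTheory

namespace Groth.Agent.ClosedShriek

/-- uniqueness of partially defined right adjoints -/
theorem nonempty_natIso_restrict₂ {B C C' D D' : Type*} [Category B] [Category C] [Category C'] [Category D]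
    [Category D'] {ι : C ⥤ D} {ι' : C' ⥤ D'} (hι : ι.FullyFaithful) (hι' : ι'.FullyFaithful) {L : C ⥤ C'}
    {R : C' ⥤ C} (adj : L ⊣ R) {L' : D ⥤ D'} {R' : D' ⥤ D} (adj' : L' ⊣ R') (e : L ⋙ ι' ≅ ι ⋙ L')
    (b : B ⥤ C') (R₀ : B ⥤ C) (e₀ : R₀ ⋙ ι ≅ b ⋙ ι' ⋙ R') : Nonempty (R₀ ≅ b ⋙ R) := by
  let ε' : R₀ ⋙ L ⋙ ι' ⟶ b ⋙ ι' :=
    Functor.whiskerLeft R₀ e.hom ≫ (Functor.associator _ _ _).inv ≫ Functor.whiskerRight e₀.hom L' ≫
      (Functor.associator _ _ _).hom ≫ Functor.whiskerLeft b ((Functor.associator _ _ _).hom ≫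
        Functor.whiskerLeft ι' adj'.counit ≫ ι'.rightUnitor.hom)
  let ε : ∀ K : B, L.obj (R₀.obj K) ⟶ b.obj K := fun K => hι'.preimage (ε'.app K)
  let t : R₀ ⟶ b ⋙ R :=
    { app := fun K => adj.homEquiv _ _ (ε K)
      naturality := fun K K' u => by
        refine (adj.homEquiv_naturality_left _ _).symm.trans
          (Eq.trans (congrArg _ ?_) (adj.homEquiv_naturality_right _ _))
        refine hι'.map_injective ?_
        simp only [ε, Functor.map_comp, hι'.map_preimage]
        exact ε'.naturality u }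
  suffices ∀ K, IsIso (t.app K) from ⟨@asIso _ _ _ _ t (NatIso.isIso_of_isIso_app t)⟩
  intro K
  rw [isIso_iff_yoneda_map_bijective]
  intro M
  refine RHomCx.bijective_comp_of_mate adj (ε K) ?_
  let Ψ : (M ⟶ R₀.obj K) ≃ (L.obj M ⟶ b.obj K) :=
    hι.homEquiv.trans ((Iso.homToEquiv (e₀.app K)).trans ((adj'.homEquiv _ _).symm.trans
      ((Iso.homFromEquiv (e.app M).symm).trans hι'.homEquiv.symm)))
  convert Ψ.bijective using 1
  funext g
  refine hι'.map_injective ?_
  rw [Functor.map_comp]
  change ι'.map (L.map g) ≫ ι'.map (hι'.preimage (ε'.app K)) =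
    ι'.map (hι'.preimage (e.hom.app M ≫ (adj'.homEquiv _ _).symm (ι.map g ≫ e₀.hom.app K)))
  rw [hι'.map_preimage, hι'.map_preimage, adj'.homEquiv_counit, Functor.map_comp]
  simp only [ε', NatTrans.comp_app, Functor.whiskerLeft_app, Functor.whiskerRight_app, Functor.associator_inv_app,
    Functor.associator_hom_app, Functor.rightUnitor_hom_app, Functor.comp_obj, Functor.id_obj, Category.comp_id,
    Category.id_comp, Category.assoc]
  exact (reassoc_of% (e.hom.naturality g)) _

end Groth.Agent.ClosedShriek
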