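/- `i^× = R Hom(O_Z, -)` on `D^+_QCoh`. -/
import Groth.Prelude.Def_Dual3
import Groth.Agent.ClosedShriek.Derived
import Groth.Agent.RHomPlus.Main
import Groth.Agent.ClosedShriek.Restrict
import Groth.Agent.RHomCx.Main
import Groth.Agent.RHomCx.Exists
import Groth.Agent.GrothSS.ChangeRings
import Groth.Agent.QC.Pullback
import Groth.Agent.DQCoh.AffinePerf

set_option autoImplicit false
set_option backward.isDefEq.respectTransparency false
set_option backward.isDefEq.respectTransparency.types false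
set_option linter.style.haveILetI false
universe u

open CategoryTheory Limits AlgebraicGeometry

attribute [local instance] HasDerivedCategory.standard

namespace Groth.Agent.ClosedShriek

open Groth.Agent.RHomCx

variable {Z X : Scheme.{u}} (i : Z ⟶ X) [IsClosedImmersion i]

/-- modules with quasi-coherent direct image are quasi-coherent -/
theorem isQCoh_of_pushforward {M : Z.Modules} (h : Coh.IsQCoh ((Scheme.Modules.pushforward i).obj M)) :
    Coh.IsQCoh M :=
  haveI := GrothSS.isIso_counit_push i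
  QC.isQCoh_of_iso (asIso ((Scheme.Modules.pullbackPushforwardAdjunction i).counit.app M))
    (QC.isQCoh_pullback i h)

/-- **the right adjoint of `Ri_*` on `D^+_QCoh`** -/
theorem nonempty_rightAdjoint_closedImmersion [Dual3.HasHomO i] [EnoughInjectives X.Modules]
    (hpc : ∀ m : ℤ, DCoh.IsPseudoCoherentD m (DCoh.inD X ((Coh.push i).obj (Coh.structureModule Z))))
    [DCoh.HasRpush i] (hf : DCoh.RpushPreservesQCoh i) (a : DCoh.DQCoh X ⥤ DCoh.DQCoh Z)
    (adj : DCoh.RpushQ i hf ⊣ a) :
    Nonempty (Dual3.bddι X ⋙ a ⋙ ObjectProperty.ι _ ≅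
      Dual3.bddToPlus X ⋙ Dual3.RHomOPlus i ⋙ (DerivedCategory.Plus.ι : DerivedCategory.Plus Z.Modules ⥤ DCoh.D Z)) := by
  have := KFlat.preservesHomology_pushforward i
  haveI : PreservesFiniteLimits (Scheme.Modules.pushforward i) := Functor.preservesFiniteLimits_of_preservesHomology _
  haveI : PreservesFiniteColimits (Scheme.Modules.pushforward i) :=
    Functor.preservesFiniteColimits_of_preservesHomology _
  obtain ⟨RG, ⟨adjR⟩, ⟨eP⟩⟩ := exists_rightAdjoint i
  let E := (HomologicalComplex.single X.Modules (ComplexShape.up ℤ) 0).obj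
    ((Scheme.Modules.pushforward i).obj (Coh.structureModule Z))
  haveI := KFlat.hasLTensorCx E
  haveI := hasRSheafHom E
  let eE : DCoh.toD X E ≅ DCoh.inD X ((Scheme.Modules.pushforward i).obj (Coh.structureModule Z)) :=
    ((DerivedCategory.singleFunctorIsoCompQ X.Modules 0).app _).symm
  obtain ⟨T⟩ := RHomPlus.nonempty_pushD_RHomOPlus i E ⟨eE⟩
  have hR : ∀ K : (Dual3.IsBddBelowQ X).FullSubcategory,
      DCoh.IsQCohD ((Dual3.RHomOPlus i).obj ((Dual3.bddToPlus X).obj K)).obj := fun K k => by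
    obtain ⟨n, hn⟩ := K.property
    haveI := hn
    refine isQCoh_of_pushforward i (QC.isQCoh_of_iso
      ((DQCoh.homologyDerIso (Scheme.Modules.pushforward i) k).app _)
      (QC.isQCoh_of_iso ((DerivedCategory.homologyFunctor _ k).mapIso (T.app ((Dual3.bddToPlus X).obj K))).symm
        (prop_RSheafHom_pseudoCoherent locClass_qcoh trivial E (n - k - 1) ?_ K.obj.obj K.obj.property n k
          (by omega))))
    exact fun x => let ⟨V, hx, hV⟩ := hpc (n - k - 1) x
      ⟨V, hx, fun F ⟨eF⟩ => hV F ⟨eF ≪≫ eE⟩⟩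
  let R₀ : (Dual3.IsBddBelowQ X).FullSubcategory ⥤ DCoh.DQCoh Z :=
    ObjectProperty.lift _ (Dual3.bddToPlus X ⋙ Dual3.RHomOPlus i ⋙ DerivedCategory.Plus.ι) hR
  obtain ⟨t⟩ := nonempty_natIso_restrict₂ (ObjectProperty.fullyFaithfulι _) (ObjectProperty.fullyFaithfulι _) adj adjR
    (Iso.refl (DCoh.RpushQ i hf ⋙ ObjectProperty.ι _)) (Dual3.bddι X) R₀
    (ObjectProperty.liftCompιIso _ _ _ ≪≫
      Functor.isoWhiskerLeft (Dual3.bddToPlus X) eP.symm)
  exact ⟨(Functor.isoWhiskerRight t (ObjectProperty.ι _)).symm ≪≫ ObjectProperty.liftCompιIso _ _ _⟩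

end Groth.Agent.ClosedShriek
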